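import Cfsg.Agent.FusB.Dq7
import Cfsg.Agent.Fus.Trf
import Cfsg.Agent.Fus.Ess
import Cfsg.Agent.Fus.Pull

/-! Tools: a refined transfer lemma for involutions and extensions to centralizers. -/

set_option autoImplicit false
set_option linter.unusedSectionVars false

namespace CF.Welz
open Subgroup Cfsg Cfsg.FusionSystem CF.Fus CF.Invol CF.FusB MulAction CF.Fgs2

theorem trf2 {Ω A : Type*} [Group Ω] [CommGroup A] {S : Subgroup Ω} {F : FusionSystem S} (hF : Sat F 2)
    {χ : Ω → A} (hχ : MulOn χ S) {c : A} (c2 : orderOf c = 2) {i : Ω} (hf : i ∈ F.focalSubgroup)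
    (hi2 : orderOf i = 2) (h0 : ∀ j, F.IsConjElt i j → χ j = 1 ∨ χ j = c) :
    ∃ j, F.IsConjElt i j ∧ F.IsFullyNormalized (zpowers j) ∧ χ j = 1 := by
  classical
  haveI := hF.fin
  have hi := focal_le F hf
  wlog hn : F.IsFullyNormalized (zpowers i) generalizing i
  · obtain ⟨g, h1, h2⟩ := hF.exists_fn_map (zpowers_le.2 hi)
    have h3 := h1.mono (le_NS (zpowers_le.2 hi))
    rw [h3.mul.img_zpowers] at h2
    have h4 := h3.conjElt (mem_zpowers i)
    obtain ⟨j, a, b⟩ := this (sc_maps (sc_focal F) h3 (mem_zpowers i) hf) ((conjElt_orderOf h4).trans hi2)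
      (fun j hj => h0 j (conjElt_trans h4 hj)) (conjElt_mem h4).2 h2
    exact ⟨j, conjElt_trans h4 a, b⟩
  by_contra h
  push Not at h
  obtain ⟨G, _, _, ι, H, π, hP, hidx⟩ := hF.exists_park
  haveI := Fintype.ofFinite (G ⧸ H)
  have hii : ι i ^ 2 = 1 := by rw [← hP.mul.map_pow hi, ← hi2, pow_orderOf_eq_one, hP.mul.map_one]
  have h1 := hP.trf_focal hχ hf
  rw [Park.trf, ← tr_univ_eq_transfer, tr_eq_prod_fixed _ (fun _ _ => Finset.mem_univ _) fun m hm hm1 x hx => by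
    obtain rfl : m = 2 := ((Nat.dvd_prime Nat.prime_two).1 (hm.trans (orderOf_dvd_of_pow_eq_one hii))).resolve_left
      hm1.ne'
    rw [← (hP.phi hχ).map_one]; congr 1; ext; simp [hii],
    ← Finset.prod_filter_mul_prod_filter_not _ fun q => coc (hP.phi hχ) (ι i) q = 1,
    Finset.prod_eq_one fun q hq => (Finset.mem_filter.1 hq).2, one_mul,
    Finset.prod_congr rfl (g := fun _ => c) fun q hq => by
      obtain ⟨x, rfl⟩ := QuotientGroup.mk_surjective q
      simp only [Finset.mem_filter, Finset.mem_univ, true_and] at hq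
      have a3 := hq.2
      rw [coc_of_fixed _ (Fgs2.smul_mk_eq_iff.1 hq.1), Park.phi_apply] at a3 ⊢
      exact (h0 _ (hP.conjElt hi (Fgs2.smul_mk_eq_iff.1 hq.1))).resolve_left a3,
    Finset.prod_const, ← orderOf_dvd_iff_pow_eq_one, c2] at h1
  have h2 := card_modEq_fixed (isPGroup_zpowers (p := 2) (k := 1) hii) (Finset.univ : Finset (G ⧸ H))
    fun _ _ _ _ => Finset.mem_univ _
  rw [Finset.filter_congr (p := fun q : G ⧸ H => ∀ l ∈ zpowers (ι i), l • q = q) (q := fun q => ι i • q = q)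
    fun q _ => ⟨fun h => h _ (mem_zpowers _), fun h => (zpowers_le.2 h : zpowers (ι i) ≤ stabilizer G q)⟩,
    ← Finset.card_filter_add_card_filter_not (s := Finset.filter _ _) fun q => coc (hP.phi hχ) (ι i) q = 1,
    Finset.card_univ, ← Nat.card_eq_fintype_card] at h2
  have hc : ∀ n ∈ NS S (zpowers i), n * i * n⁻¹ = i := fun n hn => by
    rcases (mem_zpowers_two hi2).1 (conj_mem_of_norm hn.2 (mem_zpowers i)) with e | e
    · exact absurd (conj_eq_one_iff.1 e) (ne_one_of_orderOf hi2)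
    · exact e
  have hm := hP.mul.mono (NS_le (P := zpowers i))
  have h3 := card_modEq_fixed (hm.isPGroup_img (hF.pgroup NS_le))
    ((Finset.univ.filter fun q : G ⧸ H => ι i • q = q).filter fun q => coc (hP.phi hχ) (ι i) q = 1)
    fun l hl q hq => by
      obtain ⟨n, hn, rfl⟩ := hm.mem_img.1 hl
      obtain ⟨x, rfl⟩ := QuotientGroup.mk_surjective q
      simp only [Finset.mem_filter, Finset.mem_univ, true_and] at hq ⊢
      have a1 := Fgs2.smul_mk_eq_iff.1 hq.1
      have a2 : (ι n * x)⁻¹ * ι i * (ι n * x) = x⁻¹ * ι i * x := by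
        conv_lhs => rw [← hc n hn, hP.mul.map_conj hn.1 hi]
        group
      rw [coc_of_fixed _ a1] at hq
      change ι i • ((ι n * x : G) : G ⧸ H) = (ι n * x : G) ∧ coc _ _ ((ι n * x : G) : G ⧸ H) = 1
      refine ⟨Fgs2.smul_mk_eq_iff.2 (a2 ▸ a1), ?_⟩
      rw [coc_of_fixed _ (a2 ▸ a1), ← hq.2]; congr 2
  rw [(Finset.filter_eq_empty_iff (p := fun q : G ⧸ H => ∀ l ∈ _, _)).2 fun q hq h4 => ?_, Finset.card_empty,
    Nat.modEq_zero_iff_dvd] at h3
  · exact hidx ((Nat.ModEq.dvd_iff h2 dvd_rfl).2 (dvd_add h3 h1))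
  obtain ⟨x, rfl⟩ := QuotientGroup.mk_surjective q
  simp only [Finset.mem_filter, Finset.mem_univ, true_and] at hq
  have a1 := hP.gen x NS_le fun n hn => Fgs2.smul_mk_eq_iff.1 (h4 _ (mem_img_of_mem hn))
  have a2 := (a1.fn_img hn).1
  rw [(a1.mul.mono (le_NS hn.1)).img_zpowers] at a2
  refine h _ (a1.conjElt (le_NS hn.1 (mem_zpowers i))) a2 ?_
  have a3 := hq.2
  rwa [coc_of_fixed _ (Fgs2.smul_mk_eq_iff.1 hq.1), Park.phi_apply] at a3

section zm
variable {n : ℕ}

theorem zm_odd_mul {c x : ZMod (2 ^ n)} (h : (2 * c + 1) * x = 0) : x = 0 := by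
  obtain ⟨u, hu⟩ := zm_exists_inv c
  linear_combination u * h - x * hu

theorem zm_four (hn : 3 ≤ n) : (4 : ZMod (2 ^ n)) ≠ 0 := fun h => zh_ne_zero (n := n) (by omega) (by
  linear_combination ze n * h - 2 * two_mul_ze hn - two_mul_zq (n := n) (by omega))

theorem zm_unit (hn : 1 ≤ n) {x y : ZMod (2 ^ n)} (h : x * y = 1) : ∃ c, x = 2 * c + 1 := by
  obtain ⟨c, rfl | rfl⟩ := zm_even_or_odd x
  · exact absurd (by linear_combination h) (zm_even_ne_odd hn (c * y) 0)
  · exact ⟨c, rfl⟩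

theorem zm_sq (hn : 2 ≤ n) {x : ZMod (2 ^ n)} (h : x * x = 1) :
    x = 1 ∨ x = -1 ∨ x = zh n + 1 ∨ x = zh n - 1 := by
  have h1 : 1 ≤ n := by omega
  obtain ⟨c, rfl⟩ := zm_unit h1 h
  obtain ⟨d, rfl | rfl⟩ := zm_even_or_odd c
  · rcases (zm_two_mul_eq_zero h1 (a := 4 * d)).1 (zm_odd_mul (c := d) (by linear_combination h)) with e | e
    · exact .inl (by linear_combination e)
    · exact .inr (.inr (.inl (by linear_combination e)))
  · rcases (zm_two_mul_eq_zero h1 (a := 4 * d + 4)).1 (zm_odd_mul (c := d) (by linear_combination h)) with e | e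
    · exact .inr (.inl (by linear_combination e))
    · exact .inr (.inr (.inr (by linear_combination e)))

/-- a square is `1` modulo `4` -/
theorem zm_sq_ne (hn : 2 ≤ n) {x : ZMod (2 ^ n)} : x * x ≠ -1 ∧ (3 ≤ n → x * x ≠ zh n - 1) := by
  have h1 : 1 ≤ n := by omega
  have k : ∀ y, x * x ≠ 4 * y - 1 := fun y e => by
    obtain ⟨c, rfl | rfl⟩ := zm_even_or_odd x
    · exact zm_even_ne_odd h1 (2 * c * c) (2 * y - 1) (by linear_combination e)
    · exact zh_ne_zero h1 (by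
        linear_combination zq n * e + (2 * y - 2 * c * c - 2 * c - 1) * two_mul_zq hn +
          (y - c * c - c) * two_mul_zh h1)
  exact ⟨by simpa using k 0, fun h3 => by rw [← two_mul_zq hn, ← two_mul_ze h3, ← mul_assoc]; norm_num; exact k _⟩

end zm

variable {G : Type*} [Group G] [Finite G] {F : FusionSystem (⊤ : Subgroup G)} {i j : G} {P : Subgroup G}
  {f : G → G}

/-- centralizer of an element -/
abbrev Cn (x : G) : Subgroup G := centralizer {x}

theorem mem_Cn {g x : G} : g ∈ Cn x ↔ g * x = x * g := mem_centralizer_singleton_iff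

theorem self_Cn (x : G) : x ∈ Cn x := mem_Cn.2 rfl

theorem CS_zp (x : G) : CS ⊤ (zpowers x) = Cn x := by
  ext g
  rw [mem_CS, mem_Cn]
  refine ⟨fun h => (h.2 x (mem_zpowers x)).symm, fun h => ⟨trivial, ?_⟩⟩
  rintro _ ⟨k, rfl⟩
  exact (Commute.zpow_right h k).eq.symm

theorem maps_Cn (h : Mor F P f) {x y : G} (hx : x ∈ P) (hy : y ∈ P) (c : x ∈ Cn y) : f x ∈ Cn (f y) :=
  mem_Cn.2 (by rw [← h.mul hx hy, mem_Cn.1 c, h.mul hy hx])

theorem ext_el (hF : Sat F 2) (h : F.IsConjElt i j) (hj : F.IsFullyCentralized (zpowers j)) :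
    ∃ ψ, Mor F (Cn i) ψ ∧ ψ i = j := by
  obtain ⟨f, hf, rfl⟩ := conjElt_iff.1 h
  obtain ⟨g, h1, h2⟩ := hF.ext_CS hj ⟨hf, hf.mul.img_zpowers⟩
  exact ⟨g, h1.mono (CS_zp i ▸ le_sup_right), h2 i (mem_zpowers i)⟩

theorem exists_fc_el (F : FusionSystem (⊤ : Subgroup G)) (i : G) :
    ∃ j, F.IsConjElt i j ∧ F.IsFullyCentralized (zpowers j) := by
  obtain ⟨Q, h1, h2⟩ := exists_fc F (le_top : zpowers i ≤ ⊤)
  obtain ⟨f, hf⟩ := conj_iso h1
  exact ⟨f i, hf.mor.conjElt (mem_zpowers i), by rwa [← hf.mul.img_zpowers, hf.img_eq]⟩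

theorem cj_el (F : FusionSystem (⊤ : Subgroup G)) (g x : G) : F.IsConjElt x (g * x * g⁻¹) :=
  (mor_cj F le_rfl (mem_top g)).conjElt (mem_top x)

theorem trf3 (hF : Sat F 2) (hf : F.focalSubgroup = ⊤) {m : ℕ} (hm : 3 ≤ m) (κ : G →* ZMod (2 ^ m))
    {e : ZMod (2 ^ m)} (he : e = -1 ∨ e = zh m - 1) (hi : orderOf i = 2) :
    ∃ j ψ, Mor F (Cn i) ψ ∧ ψ i = j ∧ (κ j = 1 ∨ κ j = e) := by
  have h1 : 1 ≤ m := by omega
  have h2 : 2 ≤ m := by omega
  have w2 := two_mul_zh h1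
  have ww := zh_mul_zh h2
  have ee : e * e = 1 := by rcases he with rfl | rfl; exacts [by ring, by linear_combination ww - w2]
  let ε : (ZMod (2 ^ m))ˣ := ⟨e, e, ee, ee⟩
  have cc : (zh m + 1) * (zh m + 1) = 1 := by linear_combination ww + w2
  let c : (ZMod (2 ^ m))ˣ := ⟨_, _, cc, cc⟩
  have o2 : (2 : ZMod (2 ^ m)) ≠ 0 := fun q => zm_four hm (by linear_combination 2 * q)
  have oe : orderOf ε = 2 := orderOf_eq_two_iff.2 ⟨Units.ext ee, fun q => by
    have q : e = 1 := congrArg Units.val q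
    rcases he with rfl | rfl
    · exact o2 (by linear_combination -q)
    · exact zm_four hm (by linear_combination w2 - 2 * q)⟩
  have k : ∀ x : (ZMod (2 ^ m))ˣ, QuotientGroup.mk' (zpowers ε) x = 1 ↔ x.1 = 1 ∨ x.1 = e := fun x => by
    rw [QuotientGroup.mk'_apply, QuotientGroup.eq_one_iff, mem_zpowers_two oe, Units.ext_iff, Units.ext_iff]; rfl
  obtain ⟨j, a1, a2, a3⟩ := trf2 hF (mulOn_hom ((QuotientGroup.mk' (zpowers ε)).comp κ.toHomUnits) ⊤)
    (c := QuotientGroup.mk' (zpowers ε) c) (orderOf_eq_two_iff.2 ⟨by rw [← map_mul, show c * c = 1 from Units.ext cc, map_one],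
      fun q => by
        rcases (k c).1 q with q | q
        · exact zh_ne_zero h1 (by linear_combination (q : zh m + 1 = 1))
        · rcases he with rfl | rfl
          · exact zm_four hm (by linear_combination 2 * (q : zh m + 1 = -1) - w2)
          · exact o2 (by linear_combination (q : zh m + 1 = zh m - 1))⟩) (hf.ge (mem_top i)) hi fun j hj => by
      have : κ j * κ j = 1 := by rw [← map_mul, mul_self_of_orderOf ((conjElt_orderOf hj).trans hi), map_one]
      rw [MonoidHom.comp_apply, k, ← mul_inv_eq_one (b := QuotientGroup.mk' _ c), ← map_inv, ← map_mul, k]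
      change (κ j = 1 ∨ κ j = e) ∨ κ j * (zh m + 1) = 1 ∨ κ j * (zh m + 1) = e
      rcases zm_sq h2 this with q | q | q | q <;> rcases he with rfl | rfl <;> rw [q]
      exacts [.inl (.inl rfl), .inl (.inl rfl), .inl (.inr rfl), .inr (.inr (by linear_combination -w2)),
        .inr (.inl cc), .inr (.inl cc), .inr (.inr (by linear_combination ww)), .inl (.inr rfl)]
  obtain ⟨ψ, b1, b2⟩ := ext_el hF a1 (hF.fc_of_fn a2)
  exact ⟨j, ψ, b1, b2, (k _).1 a3⟩

theorem exists_four (h : IsPGroup 2 G) {x : G} (xx : x * x ≠ 1) :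
    ∃ y ∈ zpowers x, y * y ≠ 1 ∧ y * y * (y * y) = 1 := by
  obtain ⟨k, hk⟩ := h x
  induction k generalizing x with
  | zero => exact absurd (by simp at hk; simp [hk]) xx
  | succ k ih =>
    by_cases c : x * x * (x * x) = 1
    · exact ⟨x, mem_zpowers x, xx, c⟩
    obtain ⟨y, a, b⟩ := ih c (by rw [← pow_two, ← pow_mul, ← pow_succ', hk])
    exact ⟨y, zpowers_le.2 (mul_mem (mem_zpowers x) (mem_zpowers x)) a, b⟩

theorem pgG (hF : Sat F 2) : IsPGroup 2 G := hF.pg.of_equiv topEquiv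

theorem exists_kap {m : ℕ} {a : ZMod (2 ^ m) → G} (aa : ∀ i j, a i * a j = a (i + j)) (ai : Function.Injective a)
    (hn : ∀ g, ∃ k, g * a 1 * g⁻¹ = a k) : ∃ κ : G →* ZMod (2 ^ m), ∀ g i, g * a i * g⁻¹ = a (κ g * i) := by
  choose κ hκ using hn
  have a0 : a 0 = 1 := by simpa using aa 0 0
  have ap : ∀ i (k : ℕ), a i ^ k = a (k * i) := fun i k => by
    induction k with
    | zero => simp [a0]
    | succ k ih => rw [pow_succ, ih, aa]; congr 1; push_cast; ring
  have h : ∀ g i, g * a i * g⁻¹ = a (κ g * i) := fun g i => by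
    obtain ⟨k, rfl⟩ := ZMod.natCast_zmod_surjective i
    rw [← mul_one (k : ZMod (2 ^ m)), ← ap, ← conj_pow, hκ, ap, mul_one, mul_comm]
  exact ⟨⟨⟨κ, ai (by rw [← hκ]; simp)⟩, fun x y => ai (by rw [← hκ, ← h, ← hκ]; group)⟩, h⟩

theorem simple_facts {Ω : Type*} [Group Ω] {S : Subgroup Ω} {F : FusionSystem S} (hF : Sat F 2)
    (hs : F.IsSimple 2) (hr : Nat.card S ≠ 2) :
    (∀ Q, Q ≠ ⊥ → ¬ F.IsNormal Q) ∧ S ≤ F.focalSubgroup := by
  haveI := hF.fin
  have nn : ∀ Q, Q ≠ ⊥ → ¬ F.IsNormal Q := fun Q h0 hQ => by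
    obtain ⟨rfl, h1⟩ := (hs.2.2 _ _ (hF.nrm_inner hQ).isN).resolve_left h0
    haveI := (nontrivial_iff_ne_bot _).2 h0
    haveI := hF.pg.center_nontrivial
    obtain ⟨z, hz⟩ := exists_prime_orderOf_dvd_card' (G := center Q) 2
      ((hF.pg.to_subgroup _).card_eq_or_dvd.resolve_left Finite.one_lt_card.ne')
    have h5 : F.IsCentral (zpowers (z.1 : Ω)) := hF.central_of_fix (zpowers_le.2 z.1.2) fun P f hf x hx hx' => by
      obtain ⟨hP, s, hs, e⟩ := mor_inner.1 ((hom_eq_iff.1 h1 _ _).2 hf)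
      obtain ⟨k, rfl⟩ := hx'
      rw [e _ hx, ← conj_zpow, show s * z.1 = z.1 * s from congrArg Subtype.val (mem_center_iff.1 z.2 ⟨s, hs⟩),
        mul_inv_cancel_right]
    have hc : Nat.card (zpowers (z.1 : Ω)) = 2 := by rw [Nat.card_zpowers, orderOf_coe, orderOf_coe, hz]
    rcases hs.2.2 _ _ (hF.nrm_inner (normal_of_central h5)).isN with h6 | h6
    · rw [h6, card_bot] at hc
      omega
    · exact hr (h6.1 ▸ hc)
  refine ⟨nn, ?_⟩
  obtain ⟨D, hD, -⟩ := hF.exists_pres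
  refine ((hs.2.2 _ D hD.isN).resolve_left fun e => nn _ hs.2.1 ?_).1.ge.trans (hyp_le_focal F)
  rw [hF.hyp_eq_bot_iff.1 e]
  exact (sat_inner hF.pg).normal_top_of_no_ess fun P hP => not_pg_of_ess (sat_inner hF.pg) hP (by
    rw [autGroup_inner hP.1.1]; exact isPGroup_autInducedBy hF.pg)

end CF.Welz
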