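import Cfsg.Agent.Welz.A

/-! Two commuting quaternion subgroups of a 2-group with a saturated fusion system. -/

set_option autoImplicit false
set_option linter.unusedSectionVars false

namespace CF.Welz
open Subgroup Cfsg Cfsg.FusionSystem CF.Fus CF.Invol CF.FusB

variable {G : Type*} [Group G] [Finite G] {F : FusionSystem (⊤ : Subgroup G)} {E U X Y : Subgroup G} {n : ℕ}
  {a b a' b' : ZMod (2 ^ n) → G} {l : ZMod (2 ^ n)} {g x y : G}

theorem odd_res (hU : U ≤ E) {α : MulAut E} (hs : ∀ x ∈ U, fn α x ∈ U) (ho : Odd (orderOf α)) :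
    Odd (orderOf (res U α)) ∧ ∀ x ∈ U, fn (res U α) x = fn α x :=
  ⟨ho.of_dvd_nat ((mulOn_res hU).orderOf_dvd (mem_stab_of_maps hU hs)),
    fun _ hx => fn_res hU (mem_stab_of_maps hU hs) hx⟩

theorem pg (hF : Sat F 2) (P : Subgroup G) : IsPGroup 2 P := hF.pgroup le_top

/-- a normal quaternion subgroup `X` with centralizer `Y` -/
structure Pr (X Y : Subgroup G) (n : ℕ) (a b : ZMod (2 ^ n) → G) : Prop extends MB X n (-1) (zh n) a b where
  n3 : 3 ≤ n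
  cq : ∀ g i l, 2 * i ≠ 0 → g * a i = a i * g → g * b l = b l * g → g ∈ Y
  yc : ∀ y ∈ Y, ∀ x ∈ X, y * x = x * y
  nq : ∀ g, g * a (zq n) * g⁻¹ = a (zq n) ∨ g * a (zq n) * g⁻¹ = a (-zq n)
  tr : ∀ l, ∃ g, g * a (zq n) * g⁻¹ = a (zq n) ∧ g * b l * g⁻¹ = b (l + 1)
  q8 : ∀ x y, y * y = x * x → x * x ≠ 1 → y * x * y⁻¹ = x⁻¹ → x * x = a (zh n)

/-- closure condition -/
def Cl (F : FusionSystem (⊤ : Subgroup G)) (z : G) (X Y : Subgroup G) : Prop :=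
  ∀ P g, Mor F P g → Y ≤ P → z ∈ P → g z = z → ∀ x ∈ P, x ∈ X → g x ∈ X

namespace Pr
variable (h : Pr X Y n a b)
include h

theorem ob (l : ZMod (2 ^ n)) : orderOf (b l) = 4 := h.orderOf_b_eq_four.2 (by ring)

theorem qq (l : ZMod (2 ^ n)) : IsQ8 (TT a b l) (a (zq n)) (b l) := TT_four (h.ob l) ▸ h.isQ8_Q h.two_le (h.ob l)

theorem q2 : 2 * zq n ≠ 0 := two_mul_zq h.two_le ▸ zh_ne_zero h.one_le

theorem sq : a (zq n) * a (zq n) = a (zh n) := by rw [h.aa, ← two_mul, two_mul_zq h.two_le]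

theorem zT (l : ZMod (2 ^ n)) : a (zh n) ∈ TT a b l := h.sq ▸ mul_mem (h.qq l).left_mem (h.qq l).left_mem

theorem cq' (hx : x ∈ X) (hy : y ∈ X) (c : ¬ Commute x y) (c1 : g * x = x * g) (c2 : g * y = y * g) : g ∈ Y := by
  have k : ∀ {i l}, ¬ Commute (a i) (b l) → 2 * i ≠ 0 := fun c e => c (h.commute_ab.2 (by linear_combination -e))
  obtain ⟨i, rfl⟩ | ⟨i, rfl⟩ := (h.mem x).1 hx <;> obtain ⟨j, rfl⟩ | ⟨j, rfl⟩ := (h.mem y).1 hy
  · exact absurd (h.commute_aa i j) c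
  · exact h.cq g i j (k c) c1 c2
  · exact h.cq g j i (k fun e => c e.symm) c2 c1
  · refine h.cq g (i - j + zh n) i (fun e => c (h.commute_bb.2 ?_)) ?_ c1
    · linear_combination two_mul_zh h.one_le - e
    · rw [show a (i - j + zh n) = b i * b j by rw [h.bb]; congr 1; ring, ← mul_assoc, c1, mul_assoc, c2, mul_assoc]

theorem CS_eq (l : ZMod (2 ^ n)) : CS ⊤ (TT a b l) = Y := le_antisymm
  (fun g hg => h.cq g _ l h.q2 (hg.2 _ (h.qq l).left_mem).symm (hg.2 _ (h.qq l).right_mem).symm)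
  fun g hg => ⟨trivial, fun x hx => (h.yc g hg x ((h.TT_lt l).le hx)).symm⟩

theorem fc (hF : Sat F 2) (c : Cl F (a (zh n)) X Y) (l : ZMod (2 ^ n)) : F.IsFullyCentralized (TT a b l) := by
  obtain ⟨Q, h1, h2⟩ := exists_fc F (le_top : TT a b l ≤ ⊤)
  obtain ⟨f, hf⟩ := conj_iso h1
  obtain ⟨g, g1, g2⟩ := hF.ext_CS h2 hf
  have q := h.qq l
  have m1 : a (zq n) ∈ TT a b l ⊔ CS ⊤ (TT a b l) := mem_sup_left q.left_mem
  have m2 : b l ∈ TT a b l ⊔ CS ⊤ (TT a b l) := mem_sup_left q.right_mem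
  have gz : g (a (zh n)) = a (zh n) := by
    rw [← h.sq, g1.mul m1 m1, h.sq]
    refine h.q8 _ (g (b l)) (by rw [← g1.mul m1 m1, ← g1.mul m2 m2, q.sq_eq]) (fun e => q.sq_ne ?_)
      (by rw [← g1.mul.map_conj m2 m1, q.conj, g1.mul.map_inv m1])
    exact g1.inj (mul_mem m1 m1) (one_mem _) (by rw [g1.mul m1 m1, e, g1.mul.map_one])
  have k := c _ g g1 ((h.CS_eq l).ge.trans le_sup_right) (mem_sup_left (h.zT l)) gz
  refine fc_of_card h2 (conj_symm h1) (card_le_of_le fun y hy => (h.CS_eq l).ge ?_)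
  refine h.cq' (k _ m1 (h.a_mem _)) (k _ m2 (h.b_mem _)) (fun e => q.not_commute ?_) ?_ ?_
  · exact g1.inj (mul_mem m1 m2) (mul_mem m2 m1) (by rw [g1.mul m1 m2, g1.mul m2 m1, e.eq])
  · exact (hy.2 _ (g2 _ q.left_mem ▸ hf.maps q.left_mem)).symm
  · exact (hy.2 _ (g2 _ q.right_mem ▸ hf.maps q.right_mem)).symm

theorem aut_top (np : ¬ IsPGroup 2 (F.autGroup (TT a b l))) : F.autGroup (TT a b l) = ⊤ :=
  eq_of_le_of_card_ge le_top (by
    rw [card_top]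
    exact (h.card_aut l).trans (six_le ((Inn_lt_iff (h.TT_lt l).le (h.CS_TT l)).2 (lt_NS h.isPGroup (h.TT_lt l)))
      (autInducedBy_le' F le_top le_top) (isPGroup_autInducedBy h.isPGroup) np))

theorem np_all (np : ¬ IsPGroup 2 (F.autGroup (TT a b l))) (m : ZMod (2 ^ n)) :
    ¬ IsPGroup 2 (F.autGroup (TT a b m)) := by
  obtain ⟨k, hk⟩ := ZMod.natCast_zmod_surjective (m - l)
  obtain rfl : m = l + k := by rw [hk]; ring
  clear hk
  induction k with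
  | zero => rwa [Nat.cast_zero, add_zero]
  | succ k ih =>
    obtain ⟨g, e1, e2⟩ := h.tr (l + k)
    have : img (cj g) (TT a b (l + k)) = TT a b (l + (k + 1 : ℕ)) := by
      rw [TT_four (h.ob _), TT_four (h.ob _), (mulOn_cj g _).img_sup, (mulOn_cj g _).img_zpowers,
        (mulOn_cj g _).img_zpowers, cj_apply, cj_apply, e1, e2, Nat.cast_succ, add_assoc]
    exact fun q => ih ((this ▸ iso_cj F le_top (mem_top g)).symm.piso_autGroup.isPGroup q)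

theorem odd_triv {α : MulAut E} (hX : X ≤ E) (hs : ∀ x ∈ X, fn α x ∈ X) (ho : Odd (orderOf α)) :
    ∀ x ∈ X, fn α x = x := by
  obtain ⟨o, e⟩ := odd_res hX hs ho
  obtain ⟨k, hk⟩ := h.isPGroup_aut (res X α)
  intro x hx
  rw [← e x hx, eq_one_of_ppow_of_coprime hk (Nat.coprime_two_right.2 o), fn_one]

theorem eq_TT (hF : Sat F 2) {α : MulAut E} (hs : ∀ x ∈ E, x ∈ X → fn α x ∈ X) (ho : Odd (orderOf α))
    (ne : ¬ ∀ x ∈ E, x ∈ X → fn α x = x) : ∃ l, E ⊓ X = TT a b l := by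
  obtain ⟨o, e⟩ := odd_res (U := E ⊓ X) inf_le_left (fun x hx => ⟨fn_mem α hx.1, hs x hx.1 hx.2⟩) ho
  refine MX.exists_TT h.toMX inf_le_right (oddAut_fn (pg hF _) o) (by_contra fun c => ne fun x h1 h2 => ?_)
  push Not at c
  rw [← e x ⟨h1, h2⟩, c x ⟨h1, h2⟩]

theorem ext (h' : Pr Y X n a' b') (hF : Sat F 2) (c : Cl F (a (zh n)) X Y)
    (np : ¬ IsPGroup 2 (F.autGroup (TT a b 0))) {α : MulAut E} (hs : ∀ x ∈ E, x ∈ X → fn α x ∈ X)
    (ho : Odd (orderOf α)) : ∃ g, Mor F (E ⊓ X ⊔ Y) g ∧ (∀ x ∈ E, x ∈ X → g x = fn α x) ∧ ∀ y ∈ Y, g y = y := by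
  by_cases ne : ∀ x ∈ E, x ∈ X → fn α x = x
  · exact ⟨id, mor_id F le_top, fun x a b => (ne x a b).symm, fun _ _ => rfl⟩
  obtain ⟨l, e⟩ := h.eq_TT hF hs ho ne
  obtain ⟨o, e1⟩ := odd_res (U := TT a b l) (e.ge.trans inf_le_left)
    (fun x hx => e.le ⟨fn_mem α (e.ge hx).1, hs x (e.ge hx).1 (e.ge hx).2⟩) ho
  have nY : Y ≤ normalizer (TT a b l : Set G) := (h.CS_eq l).ge.trans CS_le_norm
  obtain ⟨δ, d1, d2, d3⟩ := ext_of_rec (p := 2) (hF.rec_of_fc (h.fc hF c l)) (Y := TT a b l ⊔ Y) le_sup_left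
    (le_inf le_top (sup_le le_normalizer nY)) ((h.CS_eq l).le.trans le_sup_right)
    ((h.aut_top (h.np_all np l)).ge (mem_top _)) (Nat.coprime_two_right.2 o) fun y hy => by
      obtain ⟨r, hr, t, ht, rfl⟩ := (mem_sup_of_norm' nY).1 hy
      refine ⟨_, mem_sup_left (fn_mem (res (TT a b l) α) hr), fun x hx => ?_⟩
      rw [← (mulOn_fn _).map_conj hr hx, show r * t * x * (r * t)⁻¹ = r * (t * x * t⁻¹) * r⁻¹ by group,
        h.yc t ht x ((h.TT_lt l).le hx), mul_inv_cancel_right]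
  rw [e]
  refine ⟨fn δ, mor_fn le_top d1, fun x a b => by rw [← d3 x (e.le ⟨a, b⟩), e1 x (e.le ⟨a, b⟩)],
    h'.odd_triv le_sup_right (fun y hy => (h.CS_eq l).le ⟨trivial, fun x hx => ?_⟩) (Nat.coprime_two_right.1 d2)⟩
  obtain ⟨x', hx', rfl⟩ := (piso_fn (res (TT a b l) α)).surj hx
  clear hx
  rename' x' => x, hx' => hx
  rw [d3 x hx, ← mulOn_fn δ (mem_sup_left hx) (mem_sup_right hy), ← h.yc y hy x ((h.TT_lt l).le hx),
    mulOn_fn δ (mem_sup_right hy) (mem_sup_left hx)]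

theorem split (hF : Sat F 2) {α : MulAut E} (hs : ∀ x ∈ E, x ∈ X → fn α x ∈ X) (ho : Odd (orderOf α))
    (ne : ¬ ∀ x ∈ E, x ∈ X → fn α x = x) (hx : x ∈ E) : ∃ r ∈ E, r ∈ X ∧ r⁻¹ * x ∈ Y := by
  obtain ⟨l, e⟩ := h.eq_TT hF hs ho ne
  obtain ⟨o, e1⟩ := odd_res (U := TT a b l) (e.ge.trans inf_le_left)
    (fun x hx => e.le ⟨fn_mem α (e.ge hx).1, hs x (e.ge hx).1 (e.ge hx).2⟩) ho
  have q := h.qq l
  have oa := oddAut_fn (pg hF _) o
  have mq := (e.ge q.left_mem).1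
  generalize fn (res (TT a b l) α) = Φ at e1 oa
  obtain ⟨m, hm⟩ := MX.odd_move h.toMX (i := l) (j := zq n) ⟨2, by rw [two_mul_zq h.two_le]; ring⟩
    (TT_four (h.ob l) ▸ oa) (by
      by_contra c
      push Not at c
      exact ne fun x h1 h2 => by rw [← e1 x (e.le ⟨h1, h2⟩), c x (TT_four (h.ob l) ▸ e.le ⟨h1, h2⟩)])
  rw [e1 _ q.left_mem] at hm
  have q' := q.of_not_commute q.left_mem (hm ▸ e.le ⟨fn_mem α mq, hs _ mq (h.a_mem _)⟩)
    fun c => h.q2 (by linear_combination -h.commute_ab.1 c)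
  have k : ∀ {g u : G}, g * u * g⁻¹ = u ∨ g * u * g⁻¹ = u⁻¹ → Transfer.cj g (zpowers u) = zpowers u := fun c => by
    rw [Transfer.cj, MonoidHom.map_zpowers]
    rcases c with c | c <;> simp [c]
  obtain ⟨r, hr, c⟩ := q'.exists_mul_of_cj_eq (g := x) (k (h.a_inv _ ▸ h.nq x)) (k (by
    rw [← hm, ← fn_fn_inv α x, ← (mulOn_fn α).map_conj (fn_mem _ hx) mq, ← (mulOn_fn α).map_inv mq, h.a_inv]
    exact (h.nq _).imp (congrArg _) (congrArg _)))
  exact ⟨r, (e.ge hr).1, (e.ge hr).2, (h.CS_eq l).le ⟨trivial, c⟩⟩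

end Pr

end CF.Welz
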